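import Cfsg.Agent.Lib.CyclicDefect.Principal
import Cfsg.Agent.Lib.Blocks.ThirdMain
import Cfsg.Agent.Lib.KGV.Ito
import Cfsg.Agent.Lib.Chars17.TwoClassSylow
import Cfsg.Agent.S4441

/-!
# Characters of groups with a self-centralising subgroup of prime order and inertial index two
-/

set_option autoImplicit false
set_option linter.style.haveILetI false
set_option linter.unusedSectionVars false

noncomputable section

namespace CfsgLib.PermPrime

open Cfsg CfsgLib.Characters
open scoped ComplexConjugate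

universe u

variable {p : ℕ} [hp : Fact p.Prime] {G : Type u} [Group G] [Fintype G]

theorem dvd_orderOf_of_mem (P : Sylow p G) (hP : Nat.card P = p) {x : G}
    (hx : x ∈ (P : Subgroup G)) (hx1 : x ≠ 1) : orderOf x = p := by
  have h := Subgroup.orderOf_dvd_natCard (P : Subgroup G) hx
  rw [show Nat.card (P : Subgroup G) = p from hP] at h
  rcases (Nat.dvd_prime hp.out).1 h with h | h
  · exact absurd (orderOf_eq_one_iff.1 h) hx1
  · exact h

/-- Singular elements are conjugate into a self-centralising Sylow subgroup of prime order. -/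
theorem exists_conj_mem (P : Sylow p G) (hP : Nat.card P = p)
    (hC : Subgroup.centralizer ((P : Subgroup G) : Set G) = (P : Subgroup G)) {g : G}
    (hg : p ∣ orderOf g) : ∃ c : G, c * g * c⁻¹ ∈ (P : Subgroup G) ∧ c * g * c⁻¹ ≠ 1 := by
  classical
  obtain ⟨L, rfl⟩ := CfsgLib.CyclicDefect.exists_loc P hP
  letI := Fintype.ofFinite L.C
  letI := Fintype.ofFinite L.O
  letI := Fintype.ofFinite L.Dual
  obtain ⟨c, hc⟩ := L.exists_conj_mem_C hg
  refine ⟨c, hC.le hc, fun h => hp.out.ne_one (Nat.dvd_one.1 ?_)⟩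
  rw [conj_eq_one_iff] at h
  rwa [h, orderOf_one] at hg

/-- The singular elements: `2 p` times their number is `(p - 1)` times the group order. -/
theorem card_singular [DecidableEq G] (P : Sylow p G) (hP : Nat.card P = p)
    (hC : Subgroup.centralizer ((P : Subgroup G) : Set G) = (P : Subgroup G)) :
    (Finset.univ.filter fun g : G => p ∣ orderOf g).card =
      Nat.card (Sylow p G) * (p - 1) := by
  classical
  letI : Fintype (Sylow p G) := Fintype.ofFinite _
  have hcard : ∀ Q : Sylow p G, Nat.card (Q : Subgroup G) = p := fun Q =>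
    (Nat.card_congr (Q.equiv P).toEquiv).trans hP
  rw [Nat.card_eq_fintype_card, ← smul_eq_mul, ← Finset.card_univ, ← Finset.sum_const]
  have h1 : ∀ Q : Sylow p G, p - 1 = ((Finset.univ.filter fun g : G => g ∈ (Q : Subgroup G)).erase 1).card := by
    intro Q
    rw [Finset.card_erase_of_mem (by simp)]
    congr 1
    refine (hcard Q).symm.trans ?_
    rw [Nat.card_eq_fintype_card, Fintype.card_subtype]
  rw [Finset.sum_congr rfl fun Q _ => h1 Q, ← Finset.card_biUnion]
  · congr 1
    ext g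
    simp only [Finset.mem_filter, Finset.mem_univ, true_and, Finset.mem_biUnion, Finset.mem_erase]
    constructor
    · intro hg
      obtain ⟨c, hc, hc1⟩ := exists_conj_mem P hP hC hg
      refine ⟨c⁻¹ • P, fun h => hc1 (by rw [h, mul_one, mul_inv_cancel]), ?_⟩
      rw [Sylow.coe_subgroup_smul]
      refine ⟨c * g * c⁻¹, hc, ?_⟩
      show c⁻¹ * (c * g * c⁻¹) * c⁻¹⁻¹ = g
      group
    · rintro ⟨Q, hg1, hgQ⟩
      exact dvd_of_eq (dvd_orderOf_of_mem Q (hcard Q) hgQ hg1).symm
  · intro Q _ Q' _ hne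
    rw [Function.onFun, Finset.disjoint_left]
    intro g hg hg'
    simp only [Finset.mem_erase, Finset.mem_filter, Finset.mem_univ, true_and] at hg hg'
    refine hne (Sylow.ext ?_)
    have h1 : ∀ R : Sylow p G, g ∈ (R : Subgroup G) → Subgroup.zpowers g = (R : Subgroup G) :=
      fun R hR => CfsgLib.CyclicDefect.zpowers_eq R (dvd_orderOf_of_mem R (hcard R) hR hg.1) hR
        (hcard R)
    exact (h1 Q hg.2).symm.trans (h1 Q' hg'.2)

/-- The partner of the principal character. -/
structure Partner (p : ℕ) (G : Type u) [Group G] [Fintype G] where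
  χ : IrrCharacter G
  Y : Finset (IrrCharacter G)
  εχ : ℤ
  ε : ℤ
  εχ_sign : εχ = 1 ∨ εχ = -1
  ε_sign : ε = 1 ∨ ε = -1
  χ_ne : χ ≠ principalIrr G
  card_Y : Y.card = (p - 1) / 2
  principal_notMem : principalIrr G ∉ Y
  χ_notMem : χ ∉ Y
  deg : (charDegree (χ : G → ℂ) : ℤ) ≡ εχ [ZMOD p]
  sing : ∀ g : G, p ∣ orderOf g → (χ : G → ℂ) g = εχ
  rel : ∀ θ ∈ Y, ∀ g : G, ¬ p ∣ orderOf g →
    (ε : ℂ) * (θ : G → ℂ) g = 1 + (εχ : ℂ) * (χ : G → ℂ) g
  vanish : ∀ ψ : IrrCharacter G, ψ ≠ principalIrr G → ψ ≠ χ → ψ ∉ Y →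
    ∀ g : G, p ∣ orderOf g → (ψ : G → ℂ) g = 0

theorem relIndex_eq_two (P : Sylow p G) (hP : Nat.card P = p)
    (hC : Subgroup.centralizer ((P : Subgroup G) : Set G) = (P : Subgroup G))
    (hN : Nat.card (Subgroup.normalizer ((P : Subgroup G) : Set G)) = 2 * p) :
    (Subgroup.centralizer ((P : Subgroup G) : Set G)).relIndex
      (Subgroup.normalizer ((P : Subgroup G) : Set G)) = 2 := by
  rw [hC]
  have h := ((P : Subgroup G).subgroupOf
    (Subgroup.normalizer ((P : Subgroup G) : Set G))).card_mul_index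
  rw [Nat.card_congr (Subgroup.subgroupOfEquivOfLe Subgroup.le_normalizer).toEquiv,
    show Nat.card (P : Subgroup G) = p from hP, hN] at h
  exact Nat.eq_of_mul_eq_mul_left hp.out.pos (h.trans (mul_comm 2 p))

theorem exists_partner (hp5 : 5 ≤ p) (P : Sylow p G) (hP : Nat.card P = p)
    (hC : Subgroup.centralizer ((P : Subgroup G) : Set G) = (P : Subgroup G))
    (hN : Nat.card (Subgroup.normalizer ((P : Subgroup G) : Set G)) = 2 * p) :
    Nonempty (Partner p G) := by
  classical
  obtain ⟨M, hM⟩ := CfsgLib.KGV.exists_isPModular p hp.out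
  obtain ⟨X, Y, hB, hdisj, hXc, hYc, εX, ε, hX, hε, hYdeg, -, hrel⟩ :=
    Cfsg.Agent.S4441.result p M hM (by omega) P hP 2 (relIndex_eq_two P hP hC hN)
  have h1X : principalIrr G ∈ X := by
    have h1B : principalIrr G ∈ principalBlock M G := CfsgLib.Blocks.principalIrr_mem hM
    rw [hB] at h1B
    refine h1B.resolve_right fun hY => ?_
    have hk := hYdeg _ hY
    rw [show (charDegree (principalIrr G : G → ℂ) : ℤ) = 1 by simp [charDegree, principalIrr]] at hk
    obtain ⟨k, hk⟩ := Int.modEq_iff_dvd.1 hk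
    have h3 : (p : ℤ) ∣ 3 ∨ (p : ℤ) ∣ 1 := by
      rcases hε with he' | he' <;> rw [he'] at hk <;> push_cast at hk
      · exact Or.inr ⟨k, by linarith⟩
      · exact Or.inl ⟨-k, by linarith⟩
    rcases h3 with h3 | h3 <;> have := Int.le_of_dvd (by norm_num) h3 <;> omega
  obtain ⟨χ, hχX, hχne⟩ : ∃ χ ∈ X, χ ≠ principalIrr G := by
    by_contra! h
    have : X = {principalIrr G} :=
      Set.eq_singleton_iff_unique_mem.2 ⟨h1X, h⟩
    rw [this, Nat.card_coe_set_eq, Set.ncard_singleton] at hXc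
    omega
  have hXeq : X = ({principalIrr G, χ} : Set (IrrCharacter G)) := by
    refine (Set.eq_of_subset_of_ncard_le (Set.pair_subset h1X hχX) ?_ (Set.toFinite X)).symm
    rw [Set.ncard_pair (Ne.symm hχne), ← Nat.card_coe_set_eq, hXc]
  obtain ⟨x₀, hx₀⟩ := exists_prime_orderOf_dvd_card' (G := (P : Subgroup G)) p (by rw [hP])
  have hx₀' : (x₀ : G) ≠ 1 := fun h => hp.out.ne_one (by
    rw [← hx₀, show x₀ = 1 from Subtype.ext h, orderOf_one])
  have h1C : (1 : G) ∈ Subgroup.centralizer ((P : Subgroup G) : Set G) := Subgroup.one_mem _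
  have h1r : ¬ p ∣ orderOf (1 : G) := by rw [orderOf_one]; exact hp.out.not_dvd_one
  have hε1 : (εX (principalIrr G) : ℂ) = 1 := by
    rw [← (hX _ h1X).2.2 x₀ x₀.2 hx₀' 1 h1C h1r]
    rfl
  obtain ⟨hsχ, hdχ, hvχ⟩ := hX χ hχX
  refine ⟨{
    χ := χ
    Y := (Set.toFinite Y).toFinset
    εχ := εX χ
    ε := ε
    εχ_sign := hsχ
    ε_sign := hε
    χ_ne := hχne
    card_Y := by rw [← Set.ncard_eq_toFinset_card, ← Nat.card_coe_set_eq, hYc]
    principal_notMem := fun h => Set.disjoint_left.1 hdisj h1X ((Set.Finite.mem_toFinset _).1 h)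
    χ_notMem := fun h => Set.disjoint_left.1 hdisj hχX ((Set.Finite.mem_toFinset _).1 h)
    deg := hdχ
    sing := fun g hg => ?_
    rel := fun θ hθ g hg => ?_
    vanish := fun ψ h1 h2 h3 g hg => ?_ }⟩
  · obtain ⟨c, hc, hc1⟩ := exists_conj_mem P hP hC hg
    rw [← irr_isClassFunction χ g c, ← hvχ _ hc hc1 1 h1C h1r, mul_one]
  · rw [hrel θ ((Set.Finite.mem_toFinset _).1 hθ) g hg, hXeq, finsum_mem_pair (Ne.symm hχne), hε1]
    show (1 : ℂ) * 1 + _ = _
    ring
  · have hψB : ψ ∉ principalBlock M G := by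
      rw [hB]
      rintro (h | h)
      · rw [hXeq] at h
        rcases h with h | h
        · exact h1 h
        · exact h2 h
      · exact h3 ((Set.Finite.mem_toFinset _).2 h)
    obtain ⟨c, hc, hc1⟩ := exists_conj_mem P hP hC hg
    rw [← irr_isClassFunction ψ g c]
    by_contra hne
    refine hψB ?_
    obtain ⟨L, rfl⟩ := CfsgLib.CyclicDefect.exists_loc P hP
    letI := Fintype.ofFinite L.C
    letI := Fintype.ofFinite L.O
    letI := Fintype.ofFinite L.Dual
    rw [← L.indB_principal hM]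
    by_contra hmem
    have hO : ∀ y : L.O, y = 1 := by
      intro y
      obtain ⟨hy1, hy2⟩ := L.mem_O.1 y.2
      refine Subtype.ext ?_
      by_contra hy
      exact hy2 (dvd_of_eq (dvd_orderOf_of_mem L.P hP (hC.le hy1) hy).symm)
    haveI : Subsingleton L.O := ⟨fun a b => by rw [hO a, hO b]⟩
    have hpow : c * g * c⁻¹ ∈ Subgroup.zpowers L.x := by rw [L.zpowers]; exact hc
    obtain ⟨j, hj⟩ := mem_powers_iff_mem_zpowers.2 hpow
    have hj : L.x ^ j = c * g * c⁻¹ := hj
    have hjx : L.x ^ (j % p) = c * g * c⁻¹ := by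
      rw [← hj]
      conv_rhs => rw [← Nat.div_add_mod j p, pow_add, pow_mul, L.x_pow_p, one_pow, one_mul]
    have hj0 : 0 < j % p := Nat.pos_of_ne_zero fun h => hc1 (by rw [← hjx, h, pow_zero])
    have h := L.proj (irr_isClassFunction ψ) (j % p) (principalIrr L.O)
    rw [Fintype.sum_subsingleton _ (1 : L.O)] at h
    have hconst : ∀ lam : L.Dual, L.coef (ψ : G → ℂ) lam (principalIrr L.O) =
        L.coef (ψ : G → ℂ) 1 (principalIrr L.O) := fun lam => L.coef_const hM hmem lam 1
    simp only [hconst, ← Finset.mul_sum, OneMemClass.coe_one, mul_one] at h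
    rw [L.sum_dual_pow_eq_zero hj0 (Nat.mod_lt _ hp.out.pos), mul_zero, mul_zero,
      show (principalIrr L.O : L.O → ℂ) 1 = 1 from rfl, map_one, one_mul, hjx] at h
    exact hne h

/-- Characters vanishing at the singular elements have degree divisible by `p`. -/
theorem dvd_degree (P : Sylow p G) (hP : Nat.card P = p) (ψ : IrrCharacter G)
    (h : ∀ g : G, p ∣ orderOf g → (ψ : G → ℂ) g = 0) : p ∣ charDegree (ψ : G → ℂ) := by
  rw [← hP]
  exact CfsgLib.Chars17.card_dvd_degree_of_vanishing (irr_isCharacter ψ) (P : Subgroup G)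
    fun x hx hx1 => h x (dvd_of_eq (dvd_orderOf_of_mem P hP hx hx1).symm)

end CfsgLib.PermPrime
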