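import Cfsg.Agent.Lib.PermPrime.Orbits
import Cfsg.Agent.Lib.CyclicDefect.Principal
import Cfsg.Agent.Lib.PermGroup.ThreeTrans
import Cfsg.Agent.Lib.PermGroup.PrimeSylow
import Cfsg.Agent.S4441

/-!
# Groups of prime degree with a Sylow normaliser of order `2p`
-/

set_option autoImplicit false
set_option linter.style.haveILetI false
set_option linter.unusedSectionVars false

noncomputable section

namespace CfsgLib.PermPrime

open Cfsg CfsgLib.Characters MulAction
open scoped ComplexConjugate

universe u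

variable {α : Type u} [Fintype α] [DecidableEq α] {p : ℕ} [hp : Fact p.Prime]

theorem exists_moved {G : Subgroup (Equiv.Perm α)} {g : G} (hg : g ≠ 1) :
    ∃ a : α, g • a ≠ a := by
  by_contra! h
  exact hg (Subtype.ext (Equiv.ext h))

/-- An element of order `p` acts transitively on `p` points. -/
theorem isPretransitive_of_dvd (hα : Fintype.card α = p) (G : Subgroup (Equiv.Perm α))
    (h : p ∣ Nat.card G) : IsPretransitive G α := by
  obtain ⟨g, hg⟩ := exists_prime_orderOf_dvd_card' (G := G) p h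
  obtain ⟨a, ha⟩ := exists_moved (g := g) (by rintro rfl; simp [hp.out.ne_one.symm] at hg)
  have hsize : period g a = p := by
    rcases (Nat.dvd_prime hp.out).1
      (pow_smul_eq_iff_period_dvd.1 (show g ^ p • a = a by
        rw [orderOf_dvd_iff_pow_eq_one.1 hg.dvd, one_smul])) with h1 | h1
    · exact absurd (by have := pow_period_smul g a; rwa [h1, pow_one] at this) ha
    · exact h1
  have hbij : Function.Bijective fun i : Fin p => g ^ (i : ℕ) • a := by
    refine (Fintype.bijective_iff_injective_and_card _).2 ⟨fun i j he => ?_, by simp [hα]⟩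
    have key : ∀ i j : Fin p, (i : ℕ) ≤ j → g ^ (i : ℕ) • a = g ^ (j : ℕ) • a → i = j := by
      intro i j hle he
      have h2 : g ^ ((j : ℕ) - i) • a = a := by
        apply smul_left_cancel (g ^ (i : ℕ))
        rw [smul_smul, ← pow_add, Nat.add_sub_cancel' hle, he]
      rw [pow_smul_eq_iff_period_dvd, hsize] at h2
      refine Fin.ext ?_
      rcases Nat.eq_zero_or_pos ((j : ℕ) - i) with h3 | h3
      · omega
      · have := Nat.le_of_dvd h3 h2
        omega
    rcases le_total (i : ℕ) j with hle | hle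
    · exact key i j hle he
    · exact (key j i hle he.symm).symm
  refine ⟨fun x y => ?_⟩
  obtain ⟨i, hi⟩ := hbij.2 x
  obtain ⟨j, hj⟩ := hbij.2 y
  exact ⟨g ^ (j : ℕ) * (g ^ (i : ℕ))⁻¹, by
    rw [← hi, ← hj, mul_smul, inv_smul_smul]⟩

variable (G : Subgroup (Equiv.Perm α)) [IsPretransitive G α]

/-- An element with a fixed point is `p`-regular. -/
theorem regular_of_fix (hα : Fintype.card α = p) {g : G} {a : α} (h : g • a = a) :
    ¬ p ∣ orderOf g := by
  intro hd
  have h1 : orderOf g ∣ Nat.card (stabilizer G a) :=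
    Subgroup.orderOf_dvd_natCard _ (mem_stabilizer_iff.2 h)
  have h2 : (stabilizer G a).index = p := by
    rw [index_stabilizer_of_transitive, Nat.card_eq_fintype_card, hα]
  have h3 : p ^ 2 ∣ Nat.card G := by
    rw [← (stabilizer G a).card_mul_index, h2, sq]
    exact Nat.mul_dvd_mul_right (hd.trans h1) p
  exact CfsgLib.PermGroup.sq_not_dvd_card hα G (sq p ▸ h3)

theorem not_solvable (hα : Fintype.card α = p) (P : Sylow p G)
    (hN : Nat.card (Subgroup.normalizer ((P : Subgroup G) : Set G)) = 2 * p)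
    (hnn : ¬ (P : Subgroup G).Normal) : ¬ Group.IsSolvable G := by
  intro hsol
  obtain ⟨e, -, haff⟩ := CfsgLib.PermGroup.affine_of_solvable hα G hsol
  have hinj : Function.Injective fun g : G =>
      (⟨(g • e 0, g • e 1), fun h => zero_ne_one (e.injective (smul_left_cancel g h))⟩ :
        {z : α × α // z.1 ≠ z.2}) := by
    intro g g' h
    have h0 : g • e 0 = g' • e 0 := congrArg (fun z => z.1.1) h
    have h1 : g • e 1 = g' • e 1 := congrArg (fun z => z.1.2) h
    obtain ⟨k, v, hkv⟩ := haff g g.2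
    obtain ⟨k', v', hkv'⟩ := haff g' g'.2
    have e0 : (g : Equiv.Perm α) (e 0) = (g' : Equiv.Perm α) (e 0) := h0
    have e1 : (g : Equiv.Perm α) (e 1) = (g' : Equiv.Perm α) (e 1) := h1
    rw [hkv, hkv', e.apply_eq_iff_eq] at e0 e1
    simp only [mul_zero, zero_add, mul_one] at e0 e1
    subst e0
    have : k = k' := add_right_cancel e1
    subst this
    refine Subtype.ext (Equiv.ext fun x => ?_)
    obtain ⟨j, rfl⟩ := e.surjective x
    rw [hkv, hkv']
  have hle := Nat.card_le_card_of_injective _ hinj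
  have hpairs : Nat.card {z : α × α // z.1 ≠ z.2} = p * p - p := by
    rw [Nat.card_eq_fintype_card, Fintype.card_subtype_compl, Fintype.card_prod, hα]
    congr 1
    rw [← hα]
    exact Fintype.card_congr
      ⟨fun z => z.1.1, fun a => ⟨(a, a), rfl⟩, fun z => Subtype.ext (Prod.ext rfl z.2), fun _ => rfl⟩
  rw [hpairs, ← (Subgroup.normalizer ((P : Subgroup G) : Set G)).card_mul_index, hN] at hle
  have hidx := P.card_eq_index_normalizer
  replace hle : 2 * p * Nat.card (Sylow p G) ≤ p * p - p := by rw [hidx]; exact hle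
  have hmod := card_sylow_modEq_one p G
  have hn : Nat.card (Sylow p G) = 1 := by
    have hlt : Nat.card (Sylow p G) < p + 1 := by
      by_contra hge
      have : p * (p + 1) ≤ p * p - p := le_trans (by nlinarith) hle
      have h' : p * (p + 1) = p * p + p := by ring
      have := hp.out.pos
      omega
    have hpos : 0 < Nat.card (Sylow p G) := Nat.card_pos
    rcases Nat.lt_or_ge (Nat.card (Sylow p G)) p with h | h
    · have h' : Nat.card (Sylow p G) % p = 1 % p := hmod
      rwa [Nat.mod_eq_of_lt h, Nat.mod_eq_of_lt hp.out.one_lt] at h'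
    · have h' : Nat.card (Sylow p G) % p = 1 % p := hmod
      rw [show Nat.card (Sylow p G) = p by omega, Nat.mod_self,
        Nat.mod_eq_of_lt hp.out.one_lt] at h'
      omega
  rw [P.card_eq_index_normalizer, Subgroup.index_eq_one] at hn
  exact hnn (Subgroup.normalizer_eq_top_iff.1 hn)

variable {M : Ideal AlgInt}

/-- An irreducible character with a non-zero value at an element of order `p` lies in the
principal block when the Sylow subgroup is self-centralising. -/
theorem mem_principalBlock [Fintype G] (hM : IsPModular p M) (P : Sylow p G)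
    (hP : Nat.card P = p) (hC : Subgroup.centralizer ((P : Subgroup G) : Set G) ≤ (P : Subgroup G))
    (χ : IrrCharacter G) (hv : ∀ x ∈ (P : Subgroup G), x ≠ 1 → (χ : G → ℂ) x ≠ 0) :
    χ ∈ principalBlock M G := by
  classical
  obtain ⟨L, rfl⟩ := CfsgLib.CyclicDefect.exists_loc P hP
  letI := Fintype.ofFinite L.C
  letI := Fintype.ofFinite L.O
  letI := Fintype.ofFinite L.Dual
  rw [← L.indB_principal hM]
  by_contra hmem
  have hO : ∀ y : L.O, y = 1 := by
    intro y
    obtain ⟨h1, h2⟩ := L.mem_O.1 y.2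
    refine Subtype.ext ?_
    obtain ⟨k, hk⟩ := L.P.2 ⟨(y : G), hC h1⟩
    have hk' : (y : G) ^ p ^ k = 1 := congrArg Subtype.val hk
    obtain ⟨m, -, hm⟩ := (Nat.dvd_prime_pow hp.out).1 (orderOf_dvd_of_pow_eq_one hk')
    rcases Nat.eq_zero_or_pos m with rfl | hm0
    · exact orderOf_eq_one_iff.1 (by simpa using hm)
    · exact absurd (hm ▸ dvd_pow_self p hm0.ne') h2
  haveI : Subsingleton L.O := ⟨fun a b => by rw [hO a, hO b]⟩
  have h := L.proj (irr_isClassFunction χ) 1 (principalIrr L.O)
  rw [Fintype.sum_subsingleton _ (1 : L.O)] at h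
  have hconst : ∀ lam : L.Dual, L.coef (χ : G → ℂ) lam (principalIrr L.O) =
      L.coef (χ : G → ℂ) 1 (principalIrr L.O) := fun lam => L.coef_const hM hmem lam 1
  have hsum := L.sum_dual_pow_eq_zero one_pos hp.out.one_lt
  simp only [pow_one] at hsum
  simp only [hconst, ← Finset.mul_sum, pow_one, OneMemClass.coe_one, mul_one] at h
  rw [hsum, mul_zero, mul_zero] at h
  have h1 : (principalIrr L.O : L.O → ℂ) 1 = 1 := rfl
  rw [h1, map_one, one_mul] at h
  exact hv L.x L.hxP (fun e => hp.out.ne_one (by rw [← L.hx, e, orderOf_one])) h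

/-- The fixed point count less one. -/
def heart [Fintype G] : G → ℂ := fun g => (fixCount α g : ℂ) - 1

theorem isIrr_heart [Fintype G] (h2 : IsMultiplyPretransitive G α 2) (hp2 : 2 ≤ p)
    (hα : Fintype.card α = p) : IsIrrCharacter G (heart G) := by
  classical
  have hne : ∃ a b : α, a ≠ b := Fintype.exists_pair_of_one_lt_card (by omega)
  have htr : ∀ a c : α, ∃ g : G, g • a = c := fun a c => exists_smul_eq G a c
  have hpair : ∀ a b c d : α, a ≠ b → c ≠ d → ∃ g : G, g • a = c ∧ g • b = d := fun a b c d h h' =>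
    (is_two_pretransitive_iff (G := G) (α := α)).1 h2 h h'
  have hsq := sum_fixCount_sq (G := G) hpair htr hne
  have h1 : ∑ g : G, fixCount α g = 1 * Nat.card G :=
    sum_fix_of_label (G := G) (β := α) (n := 1) (fun _ => 0) (fun _ _ => rfl)
      (fun i => ⟨hne.choose, (Subsingleton.elim _ _)⟩) fun x y _ => htr x y
  refine isIrrCharacter_of_generalized_norm_one
    (isGeneralizedCharacter_sub (isGeneralizedCharacter_of_isCharacter isCharacter_fixCount)
      isGeneralizedCharacter_one) ?_ ?_
  · show classInner (fun g : G => (fixCount α g : ℂ) - 1) (fun g : G => (fixCount α g : ℂ) - 1) = 1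
    rw [classInner, inv_mul_eq_iff_eq_mul₀ (Nat.cast_ne_zero.2 Nat.card_pos.ne'), mul_one]
    have e : ∀ g : G, ((fixCount α g : ℂ) - 1) * conj ((fixCount α g : ℂ) - 1) =
        ((fixCount α g * fixCount α g : ℕ) : ℂ) - 2 * (fixCount α g : ℂ) + 1 := fun g => by
      simp only [map_sub, map_natCast, map_one]
      push_cast
      ring
    rw [Finset.sum_congr rfl fun g _ => e g, Finset.sum_add_distrib, Finset.sum_sub_distrib,
      ← Finset.mul_sum, ← Nat.cast_sum, ← Nat.cast_sum, hsq, h1, Finset.sum_const, Finset.card_univ,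
      nsmul_one, ← Nat.card_eq_fintype_card]
    push_cast
    ring
  · show 0 ≤ ((fixCount α (1 : G) : ℂ) - 1).re
    have : (1 : ℝ) ≤ (fixCount α (1 : G) : ℝ) := by
      have : fixCount α (1 : G) = p := by
        rw [fixCount, fixedBy_one_eq_univ, Nat.card_coe_set_eq, Set.ncard_univ,
          Nat.card_eq_fintype_card, hα]
      rw [this]
      exact_mod_cast hp.out.one_le
    simpa using this

theorem fixCount_one [Fintype G] (hα : Fintype.card α = p) : fixCount α (1 : G) = p := by
  rw [fixCount, fixedBy_one_eq_univ, Nat.card_coe_set_eq, Set.ncard_univ, Nat.card_eq_fintype_card,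
    hα]

theorem fixCount_eq_zero [Fintype G] (hα : Fintype.card α = p) {g : G} (hg : p ∣ orderOf g) :
    fixCount α g = 0 := by
  rw [fixCount, Finite.card_eq_zero_iff]
  exact ⟨fun a => regular_of_fix G hα (g := g) a.2 hg⟩

/-- The exceptional characters on regular elements. -/
theorem exists_exceptional [Fintype G] (hα : Fintype.card α = p) (hp5 : 5 ≤ p)
    (h2 : IsMultiplyPretransitive G α 2) (P : Sylow p G)
    (hN : Nat.card (Subgroup.normalizer ((P : Subgroup G) : Set G)) = 2 * p) :
    ∃ Y : Finset (IrrCharacter G), Y.card = (p - 1) / 2 ∧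
      ∀ θ ∈ Y, ∀ g : G, ¬ p ∣ orderOf g → (θ : G → ℂ) g = (fixCount α g : ℂ) - 2 := by
  classical
  obtain ⟨M, hM⟩ := CfsgLib.KGV.exists_isPModular p hp.out
  have hP : Nat.card P = p := CfsgLib.PermGroup.card_sylow_eq hα G P
  have hC := CfsgLib.PermGroup.centralizer_sylow_le hα G P
  set C := Subgroup.centralizer ((P : Subgroup G) : Set G)
  have hPC : (P : Subgroup G) ≤ C := fun z hz => by
    refine Subgroup.mem_centralizer_iff.2 fun y hy => ?_
    haveI : IsCyclic (P : Subgroup G) := isCyclic_of_prime_card hP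
    exact congrArg Subtype.val ((IsCyclic.isMulCommutative (α := (P : Subgroup G))).is_comm.comm
      (⟨y, hy⟩ : (P : Subgroup G)) ⟨z, hz⟩)
  have he : C.relIndex (Subgroup.normalizer ((P : Subgroup G) : Set G)) = 2 := by
    have h1 := (C.subgroupOf (Subgroup.normalizer ((P : Subgroup G) : Set G))).card_mul_index
    rw [Nat.card_congr (Subgroup.subgroupOfEquivOfLe
      (Subgroup.centralizer_le_normalizer _ : C ≤ _)).toEquiv] at h1
    have hCP : Nat.card C = p := (Nat.card_congr (Equiv.setCongr
      (congrArg SetLike.coe (le_antisymm hC hPC)))).trans hP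
    refine Nat.eq_of_mul_eq_mul_left hp.out.pos ?_
    calc p * C.relIndex (Subgroup.normalizer ((P : Subgroup G) : Set G))
        = Nat.card C * C.relIndex (Subgroup.normalizer ((P : Subgroup G) : Set G)) := by rw [hCP]
      _ = _ := h1
      _ = p * 2 := by rw [hN, mul_comm]
  obtain ⟨X, Y, hB, hdisj, hXc, hYc, εX, ε, hX, hε, hYdeg, -, hrel⟩ :=
    Cfsg.Agent.S4441.result p M hM (by omega) P hP 2 he
  set χ : IrrCharacter G := ⟨heart G, isIrr_heart G h2 hp.out.two_le hα⟩ with hχ
  have hχv : ∀ g : G, p ∣ orderOf g → (χ : G → ℂ) g = -1 := fun g hg => by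
    show (fixCount α g : ℂ) - 1 = -1
    rw [fixCount_eq_zero G hα hg, Nat.cast_zero, zero_sub]
  have hordP : ∀ x ∈ (P : Subgroup G), x ≠ 1 → p ∣ orderOf x := fun x hx hx1 => by
    have h := Subgroup.orderOf_dvd_natCard (P : Subgroup G) hx
    rw [show Nat.card (P : Subgroup G) = p from hP] at h
    rcases (Nat.dvd_prime hp.out).1 h with h | h
    · exact absurd (orderOf_eq_one_iff.1 h) hx1
    · exact dvd_of_eq h.symm
  have hχB : χ ∈ principalBlock M G := mem_principalBlock G hM P hP hC χ fun x hx hx1 => by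
    rw [hχv x (hordP x hx hx1)]
    norm_num
  have h1B : principalIrr G ∈ principalBlock M G := CfsgLib.Blocks.principalIrr_mem hM
  have hd1 : (charDegree (principalIrr G : G → ℂ) : ℤ) = 1 := by simp [charDegree, principalIrr]
  have hdχ : (charDegree (χ : G → ℂ) : ℤ) = (p : ℤ) - 1 := by
    have e : (χ : G → ℂ) 1 = ((p - 1 : ℕ) : ℂ) := by
      show (fixCount α (1 : G) : ℂ) - 1 = _
      rw [fixCount_one G hα, Nat.cast_sub hp.out.one_le, Nat.cast_one]
    rw [charDegree, e, Complex.natCast_re, Nat.floor_natCast, Nat.cast_sub hp.out.one_le, Nat.cast_one]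
  have notY : ∀ ψ : IrrCharacter G, ψ ∈ principalBlock M G →
      ((charDegree (ψ : G → ℂ) : ℤ) = 1 ∨ (charDegree (ψ : G → ℂ) : ℤ) = (p : ℤ) - 1) → ψ ∈ X := by
    intro ψ hψ hd
    rw [hB] at hψ
    refine hψ.resolve_right fun hY => ?_
    obtain ⟨k, hk⟩ := Int.modEq_iff_dvd.1 (hYdeg ψ hY)
    have h3 : (p : ℤ) ∣ 3 ∨ (p : ℤ) ∣ 1 := by
      rcases hd with hd | hd <;> rw [hd] at hk <;> rcases hε with he' | he' <;> rw [he'] at hk <;>
        push_cast at hk
      · exact Or.inr ⟨k, by linarith⟩
      · exact Or.inl ⟨-k, by linarith⟩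
      · exact Or.inl ⟨k + 1, by linarith⟩
      · exact Or.inr ⟨-(k + 1), by linarith⟩
    rcases h3 with h3 | h3 <;> have := Int.le_of_dvd (by norm_num) h3 <;> omega
  have h1X := notY _ h1B (Or.inl hd1)
  have hχX := notY _ hχB (Or.inr hdχ)
  obtain ⟨x₀, hx₀⟩ := exists_prime_orderOf_dvd_card' (G := (P : Subgroup G)) p (by rw [hP])
  have hx₀' : (x₀ : G) ≠ 1 := fun h => hp.out.ne_one (by
    rw [← hx₀, show x₀ = 1 from Subtype.ext h, orderOf_one])
  have h1C : (1 : G) ∈ C := C.one_mem
  have h1r : ¬ p ∣ orderOf (1 : G) := by rw [orderOf_one]; exact hp.out.not_dvd_one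
  have hε1 : (εX (principalIrr G) : ℂ) = 1 := by
    rw [← (hX _ h1X).2.2 x₀ x₀.2 hx₀' 1 h1C h1r]
    rfl
  have hεχ : (εX χ : ℂ) = -1 := by
    rw [← (hX _ hχX).2.2 x₀ x₀.2 hx₀' 1 h1C h1r, mul_one]
    exact hχv _ (hordP _ x₀.2 hx₀')
  have hne : principalIrr G ≠ χ := fun h => by
    rw [h, hdχ] at hd1
    omega
  have hXeq : X = ({principalIrr G, χ} : Set (IrrCharacter G)) := by
    refine (Set.eq_of_subset_of_ncard_le (Set.pair_subset h1X hχX) ?_ (Set.toFinite X)).symm
    rw [Set.ncard_pair hne, ← Nat.card_coe_set_eq, hXc]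
  have hval : ∀ θ ∈ Y, ∀ g : G, ¬ p ∣ orderOf g → (ε : ℂ) * (θ : G → ℂ) g = 2 - (fixCount α g : ℂ) := by
    intro θ hθ g hg
    rw [hrel θ hθ g hg, hXeq, finsum_mem_pair hne, hε1, hεχ]
    show (1 : ℂ) * 1 + -1 * ((fixCount α g : ℂ) - 1) = _
    ring
  refine ⟨(Set.toFinite Y).toFinset, ?_, fun θ hθ g hg => ?_⟩
  · rw [← Set.ncard_eq_toFinset_card, ← Nat.card_coe_set_eq, hYc]
  · rw [Set.Finite.mem_toFinset] at hθ
    have h0 := hval θ hθ 1 h1r
    obtain ⟨n, hn, hn'⟩ := irr_exists_degree θ.2
    have hg' := hval θ hθ g hg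
    rcases hε with rfl | rfl
    · exfalso
      rw [fixCount_one G hα, hn', Int.cast_one, one_mul] at h0
      have h' : (n : ℂ) + (p : ℂ) = 2 := by rw [h0]; ring
      have : n + p = 2 := by exact_mod_cast h'
      omega
    · push_cast at hg'
      linear_combination -hg'

/-- **Only the identity fixes three points.** -/
theorem eq_one_of_three [Fintype G] (hα : Fintype.card α = p) (hp5 : 5 ≤ p)
    (h3 : IsMultiplyPretransitive G α 3) (P : Sylow p G)
    (hN : Nat.card (Subgroup.normalizer ((P : Subgroup G) : Set G)) = 2 * p) (g : G)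
    (hg : 3 ≤ Nat.card (fixedBy α g)) : g = 1 := by
  classical
  haveI : Fact (2 ≤ 3) := ⟨by norm_num⟩
  have h2 : IsMultiplyPretransitive G α 2 := isMultiplyPretransitive_of_le (α := α) (n := 3)
    (by norm_num) (by rw [Nat.card_eq_fintype_card, hα]; exact_mod_cast (by omega : 3 ≤ p))
  obtain ⟨Y, hYc, hY⟩ := exists_exceptional G hα hp5 h2 P hN
  obtain ⟨a, b, hab⟩ := Fintype.exists_pair_of_one_lt_card (α := α) (by omega)
  have hswap : ∃ s : G, s • a = b ∧ s • b = a :=
    (is_two_pretransitive_iff (G := G) (α := α)).1 h2 hab (Ne.symm hab)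
  have hc : ∃ c, c ≠ a ∧ c ≠ b := by
    have hcard : ({a, b} : Finset α).card < (Finset.univ : Finset α).card := by
      rw [Finset.card_univ, hα]
      exact lt_of_le_of_lt Finset.card_le_two (by omega)
    obtain ⟨c, -, hc⟩ := Finset.exists_mem_notMem_of_card_lt_card hcard
    exact ⟨c, fun e => hc (by simp [e]), fun e => hc (by simp [e])⟩
  letI : Fintype (pairSet (G := G) a b) := Fintype.ofFinite _
  letI : Fintype (pairFix (G := G) a b) := Fintype.ofFinite _
  have hregH : ∀ h : pairSet (G := G) a b, ¬ p ∣ orderOf (h : G) := by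
    intro h hd
    have h2a : ((h : G) ^ 2) • a = a := by
      rcases mem_pairSet.1 h.2 with ⟨h1, -⟩ | ⟨h1, h1'⟩
      · rw [sq, mul_smul, h1, h1]
      · rw [sq, mul_smul, h1, h1']
    refine regular_of_fix G hα h2a ?_
    rw [orderOf_pow]
    have hcop : Nat.Coprime p 2 := (Nat.coprime_primes hp.out Nat.prime_two).2 (by omega)
    have h2 : p ∣ orderOf (h : G) / Nat.gcd (orderOf (h : G)) 2 * Nat.gcd (orderOf (h : G)) 2 := by
      rwa [Nat.div_mul_cancel (Nat.gcd_dvd_left _ _)]
    exact (Nat.Coprime.coprime_dvd_right (Nat.gcd_dvd_right _ _) hcop).dvd_of_dvd_mul_right h2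
  set sgn : pairSet (G := G) a b → ℂ := fun h => (pairSign hab h : ℂ)
  set Λ : G → ℂ := indFun (pairSet a b) sgn with hΛ
  have hΛc : IsCharacter G Λ :=
    Induction.isCharacter_indFun _ (isCharacter_of_irr (isIrrCharacter_of_hom (pairSign hab)))
  have hinner : ∀ (ψ : IrrCharacter G) (k : ℤ),
      (∀ g : G, ¬ p ∣ orderOf g → (ψ : G → ℂ) g = (fixCount α g : ℂ) - k) →
      classInner Λ (ψ : G → ℂ) = 1 := by
    intro ψ k hψ
    rw [hΛ, Induction.classInner_indFun _ _ (irr_isClassFunction ψ),
      show (fun h : pairSet (G := G) a b => (ψ : G → ℂ) h) =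
        (fun h : pairSet (G := G) a b => (((fixCount α (h : G) : ℤ) - k : ℤ) : ℂ)) from
      funext fun h => by rw [hψ _ (hregH h)]; push_cast; rfl]
    rw [classInner_pairSign hab hswap (fun g => (fixCount α g : ℤ) - k) (3 - k) (2 - k)]
    · simp
    · have h' : (∑ h : pairFix (G := G) a b, (fixCount α (h : G) : ℤ)) =
          3 * Nat.card (pairFix (G := G) a b) := by
        exact_mod_cast sum_pairFix_fixCount h3 hab hc
      rw [Finset.sum_sub_distrib, h', Finset.sum_const, Finset.card_univ, nsmul_eq_mul,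
        ← Nat.card_eq_fintype_card]
      ring
    · have h' : (∑ h : pairSet (G := G) a b, (fixCount α (h : G) : ℤ)) =
          2 * Nat.card (pairSet (G := G) a b) := by
        exact_mod_cast sum_pairSet_fixCount h3 hab hc hswap
      rw [Finset.sum_sub_distrib, h', Finset.sum_const, Finset.card_univ, nsmul_eq_mul,
        ← Nat.card_eq_fintype_card]
      ring
  set χ : IrrCharacter G := ⟨heart G, isIrr_heart G h2 hp.out.two_le hα⟩
  have hχY : χ ∉ Y := fun h => by
    have := hY χ h 1 (by rw [orderOf_one]; exact hp.out.not_dvd_one)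
    change (fixCount α (1 : G) : ℂ) - 1 = (fixCount α (1 : G) : ℂ) - 2 at this
    norm_num at this
  choose m hm using fun ψ : IrrCharacter G => classInner_char_nat hΛc (irr_isCharacter ψ)
  have hexp : ∀ x : G, Λ x = ∑ ψ : IrrCharacter G, (m ψ : ℂ) * (ψ : G → ℂ) x := fun x => by
    have h := congrFun (classFunction_eq_sum (isClassFunction_of_isCharacter hΛc)) x
    simp only [Finset.sum_apply, Pi.smul_apply, smul_eq_mul, hm] at h
    exact h
  have hmχ : m χ = 1 := by
    have h := hinner χ 1 fun x _ => by simp [χ, heart]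
    rw [hm] at h
    exact_mod_cast h
  have hmY : ∀ θ ∈ Y, m θ = 1 := fun θ hθ => by
    have h := hinner θ 2 fun x hx => by rw [hY θ hθ x hx]; norm_num
    rw [hm] at h
    exact_mod_cast h
  have hidx : (pairSet (G := G) a b).index * 2 = p * (p - 1) := by
    have hpf : (pairFix (G := G) a b).index = p * (p - 1) := by
      have h := Nat.card_congr
        (orbitEquivQuotientStabilizer G ((a, b) : α × α))
      have hst : stabilizer G ((a, b) : α × α) = pairFix a b := by
        ext x; simp [mem_pairFix, mem_stabilizer_iff, Prod.ext_iff]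
      rw [← hst, Subgroup.index, ← h, Nat.card_coe_set_eq]
      have horb : orbit G ((a, b) : α × α) = {z : α × α | z.1 ≠ z.2} := by
        ext ⟨c, d⟩
        refine ⟨?_, fun hcd => ?_⟩
        · rintro ⟨x, hx⟩ he
          exact hab (smul_left_cancel x ((congrArg Prod.fst hx).trans (he.trans
            (congrArg Prod.snd hx).symm)))
        · obtain ⟨x, hx1, hx2⟩ := (is_two_pretransitive_iff (G := G) (α := α)).1 h2 hab hcd
          exact ⟨x, Prod.ext hx1 hx2⟩
      rw [horb, ← Nat.card_coe_set_eq, Nat.card_eq_fintype_card]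
      show Fintype.card {z : α × α // z.1 ≠ z.2} = _
      rw [Fintype.card_subtype_compl, Fintype.card_prod, hα, Nat.mul_sub_one]
      congr 1
      rw [← hα]
      exact Fintype.card_congr
        ⟨fun z => z.1.1, fun a => ⟨(a, a), rfl⟩, fun z => Subtype.ext (Prod.ext rfl z.2), fun _ => rfl⟩
    have e1 := (pairSet (G := G) a b).card_mul_index
    have e2 := (pairFix (G := G) a b).card_mul_index
    rw [card_pairSet hab hswap] at e1
    rw [hpf] at e2
    have := Nat.card_pos (α := pairFix (G := G) a b)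
    nlinarith
  have hzero : ∀ ψ, ψ ≠ χ → ψ ∉ Y → m ψ = 0 := by
    intro ψ hψ1 hψ2
    have hd := hexp 1
    rw [hΛ, Induction.indFun_one_apply] at hd
    simp only [CharCorr.irr_one_eq_charDegree, sgn, map_one, Units.val_one, mul_one] at hd
    have hd' : (pairSet (G := G) a b).index =
        ∑ φ : IrrCharacter G, m φ * charDegree (φ : G → ℂ) := by exact_mod_cast hd
    have hχd : charDegree (χ : G → ℂ) = p - 1 := by
      have e : (χ : G → ℂ) 1 = ((p - 1 : ℕ) : ℂ) := by
        show (fixCount α (1 : G) : ℂ) - 1 = _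
        rw [fixCount_one G hα, Nat.cast_sub hp.out.one_le, Nat.cast_one]
      rw [charDegree, e, Complex.natCast_re, Nat.floor_natCast]
    have hYd : ∀ θ ∈ Y, charDegree (θ : G → ℂ) = p - 2 := fun θ hθ => by
      have e : (θ : G → ℂ) 1 = ((p - 2 : ℕ) : ℂ) := by
        rw [hY θ hθ 1 (by rw [orderOf_one]; exact hp.out.not_dvd_one), fixCount_one G hα,
          Nat.cast_sub (by omega : 2 ≤ p), Nat.cast_ofNat]
      rw [charDegree, e, Complex.natCast_re, Nat.floor_natCast]
    have hsub := Finset.sum_le_sum_of_subset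
      (f := fun φ : IrrCharacter G => m φ * charDegree (φ : G → ℂ))
      (Finset.subset_univ (insert ψ (insert χ Y)))
    rw [← hd', Finset.sum_insert (by simp [hψ1, hψ2]), Finset.sum_insert hχY,
      Finset.sum_congr rfl fun θ hθ => by rw [hmY θ hθ, hYd θ hθ, one_mul], Finset.sum_const, hYc,
      hmχ, hχd, one_mul, smul_eq_mul] at hsub
    obtain ⟨n, hn⟩ := (hp.out.odd_of_ne_two (by omega)).exists_bit1
    have hdpos : 0 < charDegree (ψ : G → ℂ) := by
      obtain ⟨k, hk, hk'⟩ := irr_exists_degree ψ.2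
      rw [charDegree, hk', Complex.natCast_re, Nat.floor_natCast]
      exact hk
    by_contra hm0
    have hm1 : 1 ≤ m ψ * charDegree (ψ : G → ℂ) := Nat.one_le_iff_ne_zero.2
      (mul_ne_zero hm0 hdpos.ne')
    subst hn
    have e1 : (2 * n + 1 - 1) / 2 = n := by omega
    have e2 : 2 * n + 1 - 1 = 2 * n := by omega
    obtain ⟨n', rfl⟩ : ∃ n', n = n' + 1 := ⟨n - 1, by omega⟩
    have e3 : 2 * (n' + 1) + 1 - 2 = 2 * n' + 1 := by omega
    rw [e1, e2, e3] at hsub
    rw [e2] at hidx
    nlinarith
  -- the value at `g`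
  have hgreg : ¬ p ∣ orderOf g := by
    obtain ⟨x, hx⟩ : ∃ x, g • x = x := by
      obtain ⟨⟨x, hx⟩⟩ := (Nat.card_pos_iff.1 (by omega : 0 < Nat.card (fixedBy α g))).1
      exact ⟨x, hx⟩
    exact regular_of_fix G hα hx
  have hgval : Λ g = ((fixCount α g : ℂ) - 1) + ((p - 1) / 2 : ℕ) * ((fixCount α g : ℂ) - 2) := by
    rw [hexp, ← Finset.sum_subset (Finset.subset_univ (insert χ Y)) (fun ψ _ hψ => by
      rw [Finset.mem_insert, not_or] at hψ
      rw [hzero ψ hψ.1 hψ.2, Nat.cast_zero, zero_mul]), Finset.sum_insert hχY, hmχ,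
      Finset.sum_congr rfl fun θ hθ => by rw [hmY θ hθ, hY θ hθ g hgreg, Nat.cast_one, one_mul],
      Finset.sum_const, hYc, nsmul_eq_mul, Nat.cast_one, one_mul]
    rfl
  -- the bound
  set W := (Finset.univ : Finset G).filter fun x => g • (x • a) = x • a ∧ g • (x • b) = x • b
  have hW : (Nat.card (pairSet (G := G) a b) : ℝ) * (Λ g).re ≤ W.card := by
    rw [hΛ, Induction.indFun_apply, ← Complex.natCast_re, Complex.natCast_re,
      show ((Nat.card (pairSet (G := G) a b) : ℂ)⁻¹) =
        (((Nat.card (pairSet (G := G) a b) : ℝ)⁻¹ : ℝ) : ℂ) by simp, Complex.re_ofReal_mul,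
      ← mul_assoc, mul_inv_cancel₀ (Nat.cast_ne_zero.2 Nat.card_pos.ne'), one_mul, Complex.re_sum,
      ← Finset.sum_boole]
    refine Finset.sum_le_sum fun x _ => ?_
    by_cases hx : x⁻¹ * g * x ∈ pairSet (G := G) a b
    · rw [Induction.extendByZero_mem _ _ hx]
      show (((if (x⁻¹ * g * x) • a = a then (1 : ℂˣ) else -1 : ℂˣ)) : ℂ).re ≤ _
      split_ifs with h1 h2' h2'
      · simp
      · exfalso
        rcases mem_pairSet.1 hx with ⟨ha, hb⟩ | ⟨ha, -⟩
        · refine h2' ⟨?_, ?_⟩
          · rwa [mul_smul, mul_smul, inv_smul_eq_iff] at ha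
          · rwa [mul_smul, mul_smul, inv_smul_eq_iff] at hb
        · exact hab (h1.symm.trans ha)
      · simp
      · simp
    · rw [Induction.extendByZero_notMem _ _ hx]
      split_ifs <;> simp
  have hWc : W.card ≤ fixCount α g * (fixCount α g - 1) * Nat.card (pairFix (G := G) a b) := by
    set F := (Finset.univ : Finset α).filter fun x => g • x = x
    have hF : F.card = fixCount α g := by
      rw [fixCount, Nat.card_eq_fintype_card, Fintype.card_ofFinset]
      first | rfl | (congr 1; ext; simp [F])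
    rw [← hF, Nat.mul_sub_one, ← Finset.offDiag_card]
    refine le_trans (Finset.card_le_mul_card_image_of_maps_to
      (f := fun x : G => (x • a, x • b)) (fun x hx => ?_) (Nat.card (pairFix (G := G) a b))
      fun z _ => ?_) (le_of_eq (mul_comm _ _))
    · obtain ⟨h1, h2'⟩ := (Finset.mem_filter.1 hx).2
      exact Finset.mem_offDiag.2 ⟨Finset.mem_filter.2 ⟨Finset.mem_univ _, h1⟩,
        Finset.mem_filter.2 ⟨Finset.mem_univ _, h2'⟩, fun e => hab (smul_left_cancel x e)⟩
    · rcases Finset.eq_empty_or_nonempty (W.filter fun x : G => (x • a, x • b) = z) with h | ⟨x₀, hx₀⟩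
      · rw [h, Finset.card_empty]; exact Nat.zero_le _
      · rw [Nat.card_eq_fintype_card, ← Finset.card_univ]
        refine Finset.card_le_card_of_injOn (fun x => if hh : x₀⁻¹ * x ∈ pairFix (G := G) a b
          then (⟨x₀⁻¹ * x, hh⟩ : pairFix (G := G) a b) else 1) (fun _ _ => Finset.mem_univ _) ?_
        intro x hx y hy he
        have hmem : ∀ x ∈ W.filter (fun x : G => (x • a, x • b) = z),
            x₀⁻¹ * x ∈ pairFix (G := G) a b := by
          intro x hx
          have e := (Finset.mem_filter.1 hx).2.trans (Finset.mem_filter.1 hx₀).2.symm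
          refine mem_pairFix.2 ⟨?_, ?_⟩
          · rw [mul_smul, inv_smul_eq_iff]; exact congrArg Prod.fst e
          · rw [mul_smul, inv_smul_eq_iff]; exact congrArg Prod.snd e
        simp only [dif_pos (hmem x hx), dif_pos (hmem y hy), Subtype.mk.injEq] at he
        exact mul_left_cancel he
  have hW' : (W.card : ℝ) ≤ (fixCount α g : ℝ) * ((fixCount α g : ℝ) - 1) *
      (Nat.card (pairFix (G := G) a b) : ℝ) := by
    have h := (Nat.cast_le (α := ℝ)).2 hWc
    push_cast [Nat.cast_sub (show 1 ≤ fixCount α g by unfold fixCount; omega)] at h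
    linarith
  have hKpos : (0 : ℝ) < (Nat.card (pairFix (G := G) a b) : ℝ) := by exact_mod_cast Nat.card_pos
  obtain ⟨n, hn⟩ := (hp.out.odd_of_ne_two (by omega)).exists_bit1
  have e1 : (p - 1) / 2 = n := by omega
  rw [hgval, e1] at hW
  simp only [Complex.add_re, Complex.sub_re, Complex.mul_re, Complex.natCast_re, Complex.natCast_im,
    Complex.one_re, Complex.re_ofNat, zero_mul, sub_zero, card_pairSet hab hswap] at hW
  push_cast at hW
  have hf3 : (3 : ℝ) ≤ (fixCount α g : ℝ) := by exact_mod_cast hg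
  have hfp : (p : ℝ) ≤ (fixCount α g : ℝ) := by
    subst hn
    push_cast
    have h1 := le_trans hW hW'
    have h2' : 2 * (((fixCount α g : ℝ) - 1) + (n : ℝ) * ((fixCount α g : ℝ) - 2)) ≤
        (fixCount α g : ℝ) * ((fixCount α g : ℝ) - 1) := by
      refine le_of_mul_le_mul_right ?_ hKpos
      linarith
    have h3' : (2 * (n : ℝ)) * ((fixCount α g : ℝ) - 2) ≤
        ((fixCount α g : ℝ) - 1) * ((fixCount α g : ℝ) - 2) := by linarith
    have h4 := le_of_mul_le_mul_right h3' (by linarith)
    linarith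
  have hfp' : p ≤ fixCount α g := by exact_mod_cast hfp
  refine Subtype.ext (Equiv.ext fun x => ?_)
  have huniv : fixedBy α g = Set.univ := by
    refine Set.eq_of_subset_of_ncard_le (Set.subset_univ _) ?_ (Set.toFinite _)
    rw [Set.ncard_univ]
    have hle : (fixedBy α g).ncard ≤ p := by
      rw [← hα, ← Nat.card_eq_fintype_card, ← Set.ncard_univ]
      exact Set.ncard_le_ncard (Set.subset_univ _)
    rw [fixCount, Nat.card_coe_set_eq] at hfp'
    rw [Nat.card_eq_fintype_card, hα]
    omega
  exact (huniv ▸ Set.mem_univ x : x ∈ fixedBy α g)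

/-- **Groups of prime degree with a Sylow normaliser of order `2p`.** -/
theorem three_transitive_sharp (hα : Fintype.card α = p) (P : Sylow p G)
    (hN : Nat.card (Subgroup.normalizer ((P : Subgroup G) : Set G)) = 2 * p)
    (hnn : ¬ (P : Subgroup G).Normal) :
    5 ≤ p ∧ IsMultiplyPretransitive G α 3 ∧
      ∀ g : G, 3 ≤ Nat.card (fixedBy α g) → g = 1 := by
  classical
  have hns := not_solvable G hα P hN hnn
  have h5 := CfsgLib.PermGroup.five_le_of_insoluble hα G hns
  have h3 := CfsgLib.PermGroup.three_transitive_of_even hα G hns P ⟨p, by rw [hN]; ring⟩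
  haveI := Fintype.ofFinite G
  exact ⟨h5, h3, eq_one_of_three G hα h5 h3 P hN⟩

end CfsgLib.PermPrime
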