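import Cfsg.Agent.Lib.Characters.Induction
import Cfsg.Agent.Lib.Characters.Generalized
import Cfsg.Agent.Lib.PermGroup.IndexDegree
import Cfsg.Agent.Lib.KGV.HasPsi
import Mathlib.GroupTheory.GroupAction.Quotient

/-!
# Counting orbits of stabilisers of pairs in a triply transitive group
-/

set_option autoImplicit false
set_option linter.style.haveILetI false
set_option linter.unusedSectionVars false

noncomputable section

namespace CfsgLib.PermPrime

open Cfsg CfsgLib.Characters MulAction

universe u v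

variable {G : Type u} [Group G] {α : Type v} [MulAction G α]

/-- Burnside's count with a given labelling of the orbits. -/
theorem sum_fix_of_label {β : Type*} [Finite β] [MulAction G β] [Fintype G] {n : ℕ} (c : β → Fin n)
    (hinv : ∀ (g : G) (x : β), c (g • x) = c x) (hsurj : Function.Surjective c)
    (hsep : ∀ x y, c x = c y → ∃ g : G, g • x = y) :
    ∑ g : G, Nat.card (fixedBy β g) = n * Nat.card G := by
  classical
  haveI := Fintype.ofFinite β
  let e : Quotient (orbitRel G β) → Fin n := Quotient.lift c fun a b hab => by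
    obtain ⟨g, rfl⟩ := hab
    exact hinv g b
  have he : Function.Bijective e := by
    refine ⟨fun x y h => ?_, fun i => ?_⟩
    · induction x using Quotient.inductionOn with
      | h a =>
        induction y using Quotient.inductionOn with
        | h b =>
          obtain ⟨g, hg⟩ := hsep b a (Eq.symm h)
          exact Quotient.sound ⟨g, hg⟩
    · obtain ⟨x, rfl⟩ := hsurj i
      exact ⟨Quotient.mk _ x, rfl⟩
  have h := sum_card_fixedBy_eq_card_orbits_mul_card_group G β
  simp only [Nat.card_eq_fintype_card]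
  rw [show Fintype.card (Quotient (orbitRel G β)) = n by
    rw [← Nat.card_eq_fintype_card, Nat.card_congr (Equiv.ofBijective e he), Nat.card_fin]] at h
  convert h using 1

variable [Fintype G] [Fintype α]

/-- The number of fixed points. -/
def fixCount (α : Type v) [MulAction G α] (g : G) : ℕ := Nat.card (fixedBy α g)

theorem isCharacter_fixCount : IsCharacter G (fun g => (fixCount α g : ℂ)) :=
  CfsgLib.KGV.isCharacter_card_fixed (fun (g : G) (a : α) => g • a) (one_smul G) fun g h a =>
    mul_smul g h a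

theorem sum_fixCount_sq (h2 : ∀ a b c d : α, a ≠ b → c ≠ d → ∃ g : G, g • a = c ∧ g • b = d)
    (htr : ∀ a c : α, ∃ g : G, g • a = c) (hne : ∃ a b : α, a ≠ b) :
    ∑ g : G, fixCount α g * fixCount α g = 2 * Nat.card G := by
  classical
  rw [← sum_fix_of_label (G := G) (β := α × α) (n := 2) (fun z => if z.1 = z.2 then 0 else 1)]
  · refine Finset.sum_congr rfl fun g _ => ?_
    rw [fixCount, ← Nat.card_prod]
    exact Nat.card_congr
      { toFun := fun z => ⟨(z.1.1, z.2.1), Prod.ext z.1.2 z.2.2⟩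
        invFun := fun z => (⟨z.1.1, congrArg Prod.fst z.2⟩, ⟨z.1.2, congrArg Prod.snd z.2⟩)
        left_inv := fun _ => rfl
        right_inv := fun _ => rfl }
  · intro g z
    simp
  · intro i
    obtain ⟨a, b, hab⟩ := hne
    fin_cases i
    · exact ⟨(a, a), by simp⟩
    · exact ⟨(a, b), by simp [hab]⟩
  · rintro ⟨x, y⟩ ⟨z, w⟩ h
    by_cases hxy : x = y
    · subst hxy
      by_cases hzw : z = w
      · subst hzw
        obtain ⟨g, hg⟩ := htr x z
        exact ⟨g, Prod.ext hg hg⟩
      · simp [hzw] at h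
    · by_cases hzw : z = w
      · simp [hxy, hzw] at h
      · obtain ⟨g, hg1, hg2⟩ := h2 x y z w hxy hzw
        exact ⟨g, Prod.ext hg1 hg2⟩

variable {a b : α}

/-- The stabiliser of an ordered pair. -/
def pairFix (a b : α) : Subgroup G := stabilizer G a ⊓ stabilizer G b

theorem mem_pairFix {g : G} : g ∈ pairFix a b ↔ g • a = a ∧ g • b = b := by
  simp [pairFix, mem_stabilizer_iff]

/-- The stabiliser of an unordered pair. -/
def pairSet (a b : α) : Subgroup G where
  carrier := {g | (g • a = a ∧ g • b = b) ∨ (g • a = b ∧ g • b = a)}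
  mul_mem' := by
    rintro g h (⟨g1, g2⟩ | ⟨g1, g2⟩) (⟨h1, h2⟩ | ⟨h1, h2⟩)
    · exact Or.inl ⟨by rw [mul_smul, h1, g1], by rw [mul_smul, h2, g2]⟩
    · exact Or.inr ⟨by rw [mul_smul, h1, g2], by rw [mul_smul, h2, g1]⟩
    · exact Or.inr ⟨by rw [mul_smul, h1, g1], by rw [mul_smul, h2, g2]⟩
    · exact Or.inl ⟨by rw [mul_smul, h1, g2], by rw [mul_smul, h2, g1]⟩
  one_mem' := Or.inl ⟨one_smul _ _, one_smul _ _⟩
  inv_mem' := by
    rintro g (⟨g1, g2⟩ | ⟨g1, g2⟩)
    · exact Or.inl ⟨inv_smul_eq_iff.2 g1.symm, inv_smul_eq_iff.2 g2.symm⟩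
    · exact Or.inr ⟨inv_smul_eq_iff.2 g2.symm, inv_smul_eq_iff.2 g1.symm⟩

theorem mem_pairSet {g : G} :
    g ∈ pairSet a b ↔ (g • a = a ∧ g • b = b) ∨ (g • a = b ∧ g • b = a) := Iff.rfl

theorem pairFix_le_pairSet : pairFix (G := G) a b ≤ pairSet a b := fun _ hg =>
  Or.inl (mem_pairFix.1 hg)

variable [DecidableEq α]

/-- The sign of the action on a pair. -/
def pairSign (hab : a ≠ b) : pairSet (G := G) a b →* ℂˣ where
  toFun h := if (h : G) • a = a then 1 else -1
  map_one' := by simp
  map_mul' g h := by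
    obtain ⟨g1, g2⟩ | ⟨g1, g2⟩ := mem_pairSet.1 g.2 <;>
      obtain ⟨h1, h2⟩ | ⟨h1, h2⟩ := mem_pairSet.1 h.2 <;>
      simp [mul_smul, g1, g2, h1, h2, hab, Ne.symm hab]

theorem sum_pairFix_fixCount (hh : IsMultiplyPretransitive G α 3) (hab : a ≠ b)
    [Fintype (pairFix (G := G) a b)] (hc : ∃ c, c ≠ a ∧ c ≠ b) :
    ∑ h : pairFix (G := G) a b, fixCount α (h : G) = 3 * Nat.card (pairFix (G := G) a b) := by
  rw [← sum_fix_of_label (G := pairFix (G := G) a b) (β := α) (n := 3)
    (fun x => if x = a then 0 else if x = b then 1 else 2)]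
  · rfl
  · rintro ⟨g, hg⟩ x
    obtain ⟨g1, g2⟩ := mem_pairFix.1 hg
    have e1 : g • x = a ↔ x = a := by
      constructor
      · intro h
        exact smul_left_cancel g (h.trans g1.symm)
      · rintro rfl
        exact g1
    have e2 : g • x = b ↔ x = b := by
      constructor
      · intro h
        exact smul_left_cancel g (h.trans g2.symm)
      · rintro rfl
        exact g2
    show (if g • x = a then (0 : Fin 3) else if g • x = b then 1 else 2) = _
    simp only [e1, e2]
  · intro i
    obtain ⟨c, hca, hcb⟩ := hc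
    fin_cases i
    · exact ⟨a, by simp⟩
    · exact ⟨b, by simp [Ne.symm hab]⟩
    · exact ⟨c, by simp [hca, hcb]⟩
  · intro x y h
    by_cases hxa : x = a
    · subst hxa
      refine ⟨1, ?_⟩
      by_contra hne
      rw [one_smul] at hne
      simp only [if_true] at h
      by_cases hyb : y = b <;> simp [Ne.symm hne, hyb] at h
      simp [hab, Ne.symm hab] at h
    · by_cases hxb : x = b
      · subst hxb
        refine ⟨1, ?_⟩
        by_contra hne
        rw [one_smul] at hne
        simp only [if_neg hxa, if_true] at h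
        by_cases hya : y = a <;> simp [hya, Ne.symm hne] at h
      · have hya : y ≠ a := fun e => by simp [hxa, hxb, e] at h
        have hyb : y ≠ b := fun e => by simp [hxa, hxb, e, Ne.symm hab] at h
        obtain ⟨g, g1, g2, g3⟩ := CfsgLib.PermGroup.exists_smul_triple hh hab (Ne.symm hxa)
          (Ne.symm hxb) hab (Ne.symm hya) (Ne.symm hyb)
        exact ⟨⟨g, mem_pairFix.2 ⟨g1, g2⟩⟩, g3⟩

theorem sum_pairSet_fixCount (hh : IsMultiplyPretransitive G α 3) (hab : a ≠ b)
    [Fintype (pairSet (G := G) a b)] (hc : ∃ c, c ≠ a ∧ c ≠ b)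
    (hswap : ∃ g : G, g • a = b ∧ g • b = a) :
    ∑ h : pairSet (G := G) a b, fixCount α (h : G) = 2 * Nat.card (pairSet (G := G) a b) := by
  rw [← sum_fix_of_label (G := pairSet (G := G) a b) (β := α) (n := 2)
    (fun x => if x = a ∨ x = b then 0 else 1)]
  · rfl
  · rintro ⟨g, hg⟩ x
    have e : (g • x = a ∨ g • x = b) ↔ (x = a ∨ x = b) := by
      obtain ⟨g1, g2⟩ | ⟨g1, g2⟩ := mem_pairSet.1 hg
      · constructor
        · rintro (h | h)
          · exact Or.inl (smul_left_cancel g (h.trans g1.symm))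
          · exact Or.inr (smul_left_cancel g (h.trans g2.symm))
        · rintro (rfl | rfl)
          · exact Or.inl g1
          · exact Or.inr g2
      · constructor
        · rintro (h | h)
          · exact Or.inr (smul_left_cancel g (h.trans g2.symm))
          · exact Or.inl (smul_left_cancel g (h.trans g1.symm))
        · rintro (rfl | rfl)
          · exact Or.inr g1
          · exact Or.inl g2
    show (if g • x = a ∨ g • x = b then (0 : Fin 2) else 1) = _
    simp only [e]
  · intro i
    obtain ⟨c, hca, hcb⟩ := hc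
    fin_cases i
    · exact ⟨a, by simp⟩
    · exact ⟨c, by simp [hca, hcb]⟩
  · intro x y h
    obtain ⟨s, s1, s2⟩ := hswap
    by_cases hx : x = a ∨ x = b
    · have hy : y = a ∨ y = b := by
        by_contra hy
        simp [hx, hy] at h
      have hs : s ∈ pairSet (G := G) a b := Or.inr ⟨s1, s2⟩
      rcases hx with rfl | rfl <;> rcases hy with rfl | rfl
      · exact ⟨1, one_smul _ _⟩
      · exact ⟨⟨s, hs⟩, s1⟩
      · exact ⟨⟨s, hs⟩, s2⟩
      · exact ⟨1, one_smul _ _⟩
    · have hy : ¬ (y = a ∨ y = b) := by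
        intro hy
        simp [hx, hy] at h
      simp only [not_or] at hx hy
      obtain ⟨g, g1, g2, g3⟩ := CfsgLib.PermGroup.exists_smul_triple hh hab (Ne.symm hx.1)
        (Ne.symm hx.2) hab (Ne.symm hy.1) (Ne.symm hy.2)
      exact ⟨⟨g, Or.inl ⟨g1, g2⟩⟩, g3⟩

theorem card_pairSet (hab : a ≠ b) (hswap : ∃ g : G, g • a = b ∧ g • b = a) :
    Nat.card (pairSet (G := G) a b) = 2 * Nat.card (pairFix (G := G) a b) := by
  obtain ⟨s, s1, s2⟩ := hswap
  have hs : s ∈ pairSet (G := G) a b := Or.inr ⟨s1, s2⟩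
  rw [two_mul, ← Nat.card_sum]
  refine (Nat.card_congr (Equiv.ofBijective
    (fun z : pairFix (G := G) a b ⊕ pairFix (G := G) a b => Sum.elim
      (fun h : pairFix (G := G) a b => (⟨(h : G), pairFix_le_pairSet h.2⟩ : pairSet (G := G) a b))
      (fun h : pairFix (G := G) a b => (⟨s * (h : G), (pairSet a b).mul_mem hs (pairFix_le_pairSet h.2)⟩ : pairSet (G := G) a b)) z) ⟨?_, ?_⟩)).symm
  · rintro (⟨g, hg⟩ | ⟨g, hg⟩) (⟨h, hh⟩ | ⟨h, hh⟩) e
    all_goals have e' := congrArg Subtype.val e
    · exact congrArg Sum.inl (Subtype.ext e')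
    · exfalso
      have e'' := congrArg (fun g : G => g • a) (show g = s * h from e')
      simp only [(mem_pairFix.1 hg).1, mul_smul, (mem_pairFix.1 hh).1, s1] at e''
      exact hab e''
    · exfalso
      have e'' := congrArg (fun g : G => g • a) (show s * g = h from e')
      simp only [(mem_pairFix.1 hg).1, mul_smul, (mem_pairFix.1 hh).1, s1] at e''
      exact hab e''.symm
    · exact congrArg Sum.inr (Subtype.ext (mul_left_cancel (a := s) e'))
  · rintro ⟨g, hg⟩
    obtain ⟨g1, g2⟩ | ⟨g1, g2⟩ := mem_pairSet.1 hg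
    · exact ⟨Sum.inl ⟨g, mem_pairFix.2 ⟨g1, g2⟩⟩, rfl⟩
    · refine ⟨Sum.inr ⟨s⁻¹ * g, mem_pairFix.2 ⟨?_, ?_⟩⟩, Subtype.ext (mul_inv_cancel_left s g)⟩
      · rw [mul_smul, g1, inv_smul_eq_iff, s1]
      · rw [mul_smul, g2, inv_smul_eq_iff, s2]

/-- The signed count over the stabiliser of an unordered pair. -/
theorem classInner_pairSign (hab : a ≠ b) [Fintype (pairSet (G := G) a b)]
    [Fintype (pairFix (G := G) a b)]
    (hswap : ∃ g : G, g • a = b ∧ g • b = a) (F : G → ℤ) (S T : ℤ)
    (hS : ∑ h : pairFix (G := G) a b, F h = S * Nat.card (pairFix (G := G) a b))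
    (hT : ∑ h : pairSet (G := G) a b, F h = T * Nat.card (pairSet (G := G) a b)) :
    classInner (fun h : pairSet (G := G) a b => (pairSign hab h : ℂ))
      (fun h : pairSet (G := G) a b => (F h : ℂ)) = ((S - T : ℤ) : ℂ) := by
  classical
  have hfilter : ∑ h ∈ (Finset.univ : Finset (pairSet (G := G) a b)).filter (fun h : pairSet (G := G) a b => (h : G) • a = a), F h =
      ∑ h : pairFix (G := G) a b, F h := by
    refine Finset.sum_bij' (fun h hh => (⟨h, ?_⟩ : pairFix (G := G) a b))
      (fun h _ => (⟨h, pairFix_le_pairSet h.2⟩ : pairSet (G := G) a b)) (fun _ _ => Finset.mem_univ _)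
      (fun h _ => Finset.mem_filter.2 ⟨Finset.mem_univ _, (mem_pairFix.1 h.2).1⟩) (fun _ _ => rfl)
      (fun _ _ => rfl) (fun _ _ => rfl)
    obtain ⟨g1, g2⟩ | ⟨g1, -⟩ := mem_pairSet.1 h.2
    · exact mem_pairFix.2 ⟨g1, g2⟩
    · exact absurd ((Finset.mem_filter.1 hh).2.symm.trans g1) hab
  have hsum : ∑ h : pairSet (G := G) a b, (if (h : G) • a = a then F h else -F h) =
      (S - T) * Nat.card (pairSet (G := G) a b) := by
    have e : ∀ h : pairSet (G := G) a b, (if (h : G) • a = a then F h else -F h) =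
        2 * (if (h : G) • a = a then F h else 0) - F h := fun h => by split_ifs <;> ring
    rw [Finset.sum_congr rfl fun h _ => e h, Finset.sum_sub_distrib, ← Finset.mul_sum,
      ← Finset.sum_filter, hfilter, hS, hT, card_pairSet hab hswap]
    push_cast
    ring
  rw [classInner, inv_mul_eq_iff_eq_mul₀ (Nat.cast_ne_zero.2 Nat.card_pos.ne')]
  have e : ∀ h : pairSet (G := G) a b, (pairSign hab h : ℂ) * (starRingEnd ℂ) (F h : ℂ) =
      (((if (h : G) • a = a then F h else -F h : ℤ)) : ℂ) := fun h => by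
    show ((if (h : G) • a = a then (1 : ℂˣ) else -1 : ℂˣ) : ℂ) * _ = _
    split_ifs <;> simp
  rw [Finset.sum_congr rfl fun h _ => e h, ← Int.cast_sum, hsum]
  push_cast
  ring

end CfsgLib.PermPrime
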